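import Mathlib.RingTheory.AlgebraicIndependent.TranscendenceBasis
import Mathlib.RingTheory.Algebraic.Integral
import Mathlib.RingTheory.Ideal.MinimalPrime.Localization
import Mathlib.RingTheory.TensorProduct.MvPolynomial
import Mathlib.RingTheory.Flat.Basic
import Mathlib.RingTheory.LocalRing.ResidueField.Ideal
import Mathlib.AlgebraicGeometry.PullbackCarrier

/-!
Transcendence degree of residue fields of points of a fibre product.
-/

set_option autoImplicit false

universe u

open CategoryTheory CategoryTheory.Limits AlgebraicGeometry TensorProduct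

noncomputable section

namespace Groth.Agent.ResTrdegBCLib

section Fields

variable (K E F L : Type u) [Field K] [Field E] [Field F] [Field L] [Algebra K E] [Algebra K F]
  [Algebra K L] [Algebra E L] [Algebra F L] [IsScalarTower K E L] [IsScalarTower K F L]

/-- A compositum has at most the transcendence degree of the extension it is made from. -/
theorem trdeg_le_of_closure_eq_top
    (hgen : Subfield.closure (Set.range (algebraMap E L) ∪ Set.range (algebraMap F L)) = ⊤) :
    Algebra.trdeg F L ≤ Algebra.trdeg K E := by
  obtain ⟨T, hT⟩ := exists_isTranscendenceBasis K E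
  let s : Set L := algebraMap E L '' T
  let R := Algebra.adjoin F s
  have hmem : ∀ c ∈ Algebra.adjoin K T, algebraMap E L c ∈ R := by
    intro c hc
    induction hc using Algebra.adjoin_induction with
    | mem x hx => exact Algebra.subset_adjoin ⟨x, hx, rfl⟩
    | algebraMap r =>
      rw [← IsScalarTower.algebraMap_apply K E L, IsScalarTower.algebraMap_apply K F L]
      exact R.algebraMap_mem _
    | add x y _ _ hx hy => rw [map_add]; exact add_mem hx hy
    | mul x y _ _ hx hy => rw [map_mul]; exact mul_mem hx hy
  let φ : Algebra.adjoin K T →+* R :=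
    ((algebraMap E L).comp (Algebra.adjoin K T).val.toRingHom).codRestrict R fun c => hmem c c.2
  have hφ : Function.Injective φ := fun a b h =>
    Subtype.ext ((algebraMap E L).injective (congrArg Subtype.val h))
  have hE : ∀ x : E, IsAlgebraic R (algebraMap E L x) := fun x => by
    have h1 := hT.isAlgebraic
    rw [Subtype.range_coe_subtype, Set.setOf_mem_eq] at h1
    exact IsAlgebraic.ringHom_of_comp_eq (f := φ) (g := algebraMap E L) (h1.isAlgebraic x) hφ (RingHom.ext fun _ => rfl)
  let C := Subalgebra.algebraicClosure R L
  have hinv : ∀ z ∈ C, z⁻¹ ∈ C := fun z hz => IsAlgebraic.inv hz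
  let C' : Subfield L := { C.toSubring with inv_mem' := hinv }
  have hle : Subfield.closure (Set.range (algebraMap E L) ∪ Set.range (algebraMap F L)) ≤ C' := by
    rw [Subfield.closure_le]
    rintro _ (⟨x, rfl⟩ | ⟨x, rfl⟩)
    · exact hE x
    · exact isAlgebraic_algebraMap (⟨algebraMap F L x, R.algebraMap_mem x⟩ : R)
  haveI : Algebra.IsAlgebraic R L := ⟨fun z => hle (hgen ▸ Subfield.mem_top z)⟩
  refine (Algebra.IsAlgebraic.trdeg_le_cardinalMk F s).trans ?_
  rw [← hT.cardinalMk_eq_trdeg]
  exact Cardinal.mk_image_le

/-- A transcendence basis stays independent over the other field in a suitable compositum. -/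
theorem exists_compositum :
    ∃ (M : Type u) (_ : Field M) (_ : Algebra F M) (j : E →+* M) (T : Set E),
      j.comp (algebraMap K E) = (algebraMap F M).comp (algebraMap K F) ∧
      IsTranscendenceBasis K ((↑) : T → E) ∧ AlgebraicIndependent F fun t : T => j t := by
  obtain ⟨T, hT⟩ := exists_isTranscendenceBasis K E
  let A := F ⊗[K] E
  let θ : MvPolynomial T F →ₐ[F] A :=
    (Algebra.TensorProduct.map (AlgHom.id F F) (MvPolynomial.aeval ((↑) : T → E))).comp
      (MvPolynomial.algebraTensorAlgEquiv K F (σ := T)).symm.toAlgHom
  have hθ : Function.Injective θ := by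
    have h1 : Function.Injective (LinearMap.lTensor F (MvPolynomial.aeval (R := K) ((↑) : T → E)).toLinearMap) :=
      Module.Flat.lTensor_preserves_injective_linearMap _ hT.1
    exact h1.comp (MvPolynomial.algebraTensorAlgEquiv K F (σ := T)).symm.injective
  obtain ⟨P, hP, hPc⟩ := Ideal.exists_comap_eq_of_mem_minimalPrimes_of_injective (f := θ.toRingHom) hθ ⊥
    (by rw [IsDomain.minimalPrimes_eq_singleton_bot]; exact Set.mem_singleton _)
  haveI := hP
  refine ⟨P.ResidueField, inferInstance, inferInstance,
    (algebraMap A P.ResidueField).comp Algebra.TensorProduct.includeRight.toRingHom, T, ?_, hT, ?_⟩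
  · ext c
    show algebraMap A P.ResidueField ((1 : F) ⊗ₜ[K] algebraMap K E c) = algebraMap F P.ResidueField (algebraMap K F c)
    rw [IsScalarTower.algebraMap_apply F A P.ResidueField]
    congr 1
    simp [A, Algebra.algebraMap_eq_smul_one, TensorProduct.smul_tmul, Algebra.TensorProduct.one_def]
  · let ψ : MvPolynomial T F →ₐ[F] P.ResidueField := (IsScalarTower.toAlgHom F A P.ResidueField).comp θ
    have hψ : Function.Injective ψ := by
      rw [injective_iff_map_eq_zero]
      intro p hp
      have h1 : θ p ∈ P := Ideal.algebraMap_residueField_eq_zero.1 hp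
      have h2 : p ∈ P.comap θ.toRingHom := h1
      rwa [hPc] at h2
    have heq : (MvPolynomial.aeval fun t : T =>
        (algebraMap A P.ResidueField).comp Algebra.TensorProduct.includeRight.toRingHom (t : E)) = ψ := by
      refine MvPolynomial.algHom_ext fun t => ?_
      simp [ψ, θ, MvPolynomial.algebraTensorAlgEquiv_symm_X]
    rw [algebraicIndependent_iff_injective_aeval, heq]
    exact hψ

end Fields

section Schemes

variable {X Y S : Scheme.{u}} (f : X ⟶ S) (g : Y ⟶ S)

theorem exists_fac {M : Type u} [Field M] {W : Scheme.{u}} (a : Spec (CommRingCat.of M) ⟶ W) {w : W}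
    (z : Spec (CommRingCat.of M)) (hz : a z = w) :
    ∃ ρ : W.residueField w ⟶ CommRingCat.of M, Spec.map ρ ≫ W.fromSpecResidueField w = a := by
  have hw : a (IsLocalRing.closedPoint M) = w := by rw [← hz]; exact congrArg _ (Subsingleton.elim _ _)
  refine ⟨(W.residueFieldCongr hw.symm).hom ≫ W.descResidueField (Scheme.stalkClosedPointTo a), ?_⟩
  rw [Spec.map_comp, Category.assoc, Scheme.residueFieldCongr_fromSpecResidueField,
    Scheme.descResidueField_stalkClosedPointTo_fromSpecResidueField]

theorem eq_of_fromSpecResidueField {W : Scheme.{u}} {w : W} {M : CommRingCat.{u}} {a b : W.residueField w ⟶ M}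
    (h : Spec.map a ≫ W.fromSpecResidueField w = Spec.map b ≫ W.fromSpecResidueField w) : a = b :=
  Spec.map_injective ((cancel_mono _).1 h)

/-- The residue field of a point of a fibre product is generated by those of its projections. -/
theorem closure_residueField_eq_top (t : ↥(pullback f g)) :
    Subfield.closure (Set.range ((pullback.fst f g).residueFieldMap t).hom ∪
      Set.range ((pullback.snd f g).residueFieldMap t).hom) = ⊤ := by
  let K₀ := Subfield.closure (Set.range ((pullback.fst f g).residueFieldMap t).hom ∪
      Set.range ((pullback.snd f g).residueFieldMap t).hom)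
  let ι : CommRingCat.of K₀ ⟶ (pullback f g).residueField t := CommRingCat.ofHom K₀.subtype
  let a : X.residueField (pullback.fst f g t) ⟶ CommRingCat.of K₀ := CommRingCat.ofHom
    (((pullback.fst f g).residueFieldMap t).hom.codRestrict K₀ fun c => Subfield.subset_closure (Or.inl ⟨c, rfl⟩))
  let b : Y.residueField (pullback.snd f g t) ⟶ CommRingCat.of K₀ := CommRingCat.ofHom
    (((pullback.snd f g).residueFieldMap t).hom.codRestrict K₀ fun c => Subfield.subset_closure (Or.inr ⟨c, rfl⟩))
  have ha : a ≫ ι = (pullback.fst f g).residueFieldMap t := rfl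
  have hb : b ≫ ι = (pullback.snd f g).residueFieldMap t := rfl
  have hw : (Spec.map a ≫ X.fromSpecResidueField _) ≫ f = (Spec.map b ≫ Y.fromSpecResidueField _) ≫ g := by
    obtain ⟨ρ₁, hρ₁⟩ := exists_fac ((Spec.map a ≫ X.fromSpecResidueField _) ≫ f) (w := f (pullback.fst f g t)) default
      (by rw [Scheme.Hom.comp_apply, Scheme.Hom.comp_apply, Scheme.fromSpecResidueField_apply])
    obtain ⟨ρ₂, hρ₂⟩ := exists_fac ((Spec.map b ≫ Y.fromSpecResidueField _) ≫ g) (w := f (pullback.fst f g t)) default
      (by rw [← Scheme.Hom.comp_apply (pullback.fst f g) f, pullback.condition, Scheme.Hom.comp_apply, Scheme.Hom.comp_apply,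
        Scheme.Hom.comp_apply, Scheme.fromSpecResidueField_apply])
    rw [← hρ₁, ← hρ₂]
    suffices h : ρ₁ ≫ ι = ρ₂ ≫ ι by
      have h2 : ρ₁ = ρ₂ := CommRingCat.hom_ext (RingHom.ext fun x =>
        Subtype.ext (congrArg (fun m => m.hom x) h :))
      rw [h2]
    refine eq_of_fromSpecResidueField ?_
    rw [Spec.map_comp, Spec.map_comp, Category.assoc, Category.assoc, hρ₁, hρ₂]
    simp only [← Category.assoc, ← Spec.map_comp, ha, hb, Scheme.Hom.SpecMap_residueFieldMap_fromSpecResidueField]
    simp only [Category.assoc, pullback.condition]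
  let t₀ := pullback.lift _ _ hw
  have hfac : Spec.map ι ≫ t₀ = (pullback f g).fromSpecResidueField t := by
    apply pullback.hom_ext
    · simp only [t₀, Category.assoc, pullback.lift_fst, ← Scheme.Hom.SpecMap_residueFieldMap_fromSpecResidueField,
        ← Spec.map_comp_assoc, ha]
    · simp only [t₀, Category.assoc, pullback.lift_snd, ← Scheme.Hom.SpecMap_residueFieldMap_fromSpecResidueField,
        ← Spec.map_comp_assoc, hb]
  let z : Spec ((pullback f g).residueField t) := default
  obtain ⟨ρ, hρ⟩ := exists_fac t₀ (w := t) (Spec.map ι z) (by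
    rw [← Scheme.Hom.comp_apply, hfac, Scheme.fromSpecResidueField_apply])
  have hid : ρ ≫ ι = 𝟙 _ := eq_of_fromSpecResidueField (by rw [Spec.map_comp, Category.assoc, hρ, hfac, Spec.map_id, Category.id_comp])
  refine eq_top_iff.2 fun x _ => ?_
  have h1 : (ρ.hom x : K₀).1 = x := congrArg (fun m => m.hom x) hid
  rw [← h1]
  exact (ρ.hom x : K₀).2

/-- The transcendence degree of residue fields does not increase under base change. -/
theorem trdeg_le (t : ↥(pullback f g)) :
    @Algebra.trdeg (Y.residueField (pullback.snd f g t)) ((pullback f g).residueField t) _ _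
        ((pullback.snd f g).residueFieldMap t).hom.toAlgebra ≤
      @Algebra.trdeg (S.residueField (f (pullback.fst f g t))) (X.residueField (pullback.fst f g t)) _ _
        (f.residueFieldMap (pullback.fst f g t)).hom.toAlgebra := by
  have hc : f (pullback.fst f g t) = g (pullback.snd f g t) := by
    rw [← Scheme.Hom.comp_apply, pullback.condition]; rfl
  let eK : S.residueField (f (pullback.fst f g t)) ⟶ Y.residueField (pullback.snd f g t) :=
    (S.residueFieldCongr hc).hom ≫ g.residueFieldMap _
  have hsq : f.residueFieldMap (pullback.fst f g t) ≫ (pullback.fst f g).residueFieldMap t =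
      eK ≫ (pullback.snd f g).residueFieldMap t := by
    refine eq_of_fromSpecResidueField ?_
    simp only [eK, Spec.map_comp, Category.assoc, Scheme.residueFieldCongr_fromSpecResidueField]
    simp only [Scheme.Hom.SpecMap_residueFieldMap_fromSpecResidueField, Scheme.Hom.SpecMap_residueFieldMap_fromSpecResidueField_assoc, pullback.condition]
  letI := (f.residueFieldMap (pullback.fst f g t)).hom.toAlgebra
  letI := eK.hom.toAlgebra
  letI := ((pullback.fst f g).residueFieldMap t).hom.toAlgebra
  letI := ((pullback.snd f g).residueFieldMap t).hom.toAlgebra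
  letI : Algebra (S.residueField (f (pullback.fst f g t))) ((pullback f g).residueField t) :=
    (((pullback.fst f g).residueFieldMap t).hom.comp (f.residueFieldMap (pullback.fst f g t)).hom).toAlgebra
  haveI : IsScalarTower (S.residueField (f (pullback.fst f g t))) (X.residueField (pullback.fst f g t))
      ((pullback f g).residueField t) := .of_algebraMap_eq fun _ => rfl
  haveI : IsScalarTower (S.residueField (f (pullback.fst f g t))) (Y.residueField (pullback.snd f g t))
      ((pullback f g).residueField t) := .of_algebraMap_eq fun c => congrArg (fun m => m.hom c) hsq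
  exact trdeg_le_of_closure_eq_top _ _ _ _ (closure_residueField_eq_top f g t)

/-- Above two points with the same image there is a point attaining the transcendence degree. -/
theorem exists_point (x : X) (y : Y) (h : f x = g y) :
    ∃ t : ↥(pullback f g), pullback.fst f g t = x ∧ pullback.snd f g t = y ∧
      @Algebra.trdeg (S.residueField (f x)) (X.residueField x) _ _ (f.residueFieldMap x).hom.toAlgebra ≤
        @Algebra.trdeg (Y.residueField (pullback.snd f g t)) ((pullback f g).residueField t) _ _
          ((pullback.snd f g).residueFieldMap t).hom.toAlgebra := by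
  let eK : S.residueField (f x) ⟶ Y.residueField y := (S.residueFieldCongr h).hom ≫ g.residueFieldMap y
  letI := (f.residueFieldMap x).hom.toAlgebra
  letI := eK.hom.toAlgebra
  obtain ⟨M, _, algM, j, T, hj, hT, hind⟩ := exists_compositum (S.residueField (f x)) (X.residueField x) (Y.residueField y)
  let jh : X.residueField x ⟶ CommRingCat.of M := CommRingCat.ofHom j
  let ih : Y.residueField y ⟶ CommRingCat.of M := CommRingCat.ofHom (algebraMap (Y.residueField y) M)
  have hsq : f.residueFieldMap x ≫ jh = eK ≫ ih := CommRingCat.hom_ext hj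
  have hw : (Spec.map jh ≫ X.fromSpecResidueField x) ≫ f = (Spec.map ih ≫ Y.fromSpecResidueField y) ≫ g := by
    rw [Category.assoc, Category.assoc, ← Scheme.Hom.SpecMap_residueFieldMap_fromSpecResidueField,
      ← Scheme.Hom.SpecMap_residueFieldMap_fromSpecResidueField, ← Spec.map_comp_assoc, hsq, Spec.map_comp,
      Category.assoc]
    simp only [eK, Spec.map_comp, Category.assoc, Scheme.residueFieldCongr_fromSpecResidueField]
  obtain ⟨t₀, ht₁, ht₂⟩ : ∃ t₀, t₀ ≫ pullback.fst f g = Spec.map jh ≫ X.fromSpecResidueField x ∧
      t₀ ≫ pullback.snd f g = Spec.map ih ≫ Y.fromSpecResidueField y :=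
    ⟨pullback.lift _ _ hw, pullback.lift_fst _ _ _, pullback.lift_snd _ _ _⟩
  obtain ⟨z, -⟩ : ∃ z : Spec (CommRingCat.of M), True := ⟨default, trivial⟩
  obtain ⟨t, ht⟩ : ∃ t, t₀ z = t := ⟨_, rfl⟩
  obtain ⟨ρ, hρ⟩ := exists_fac t₀ z ht
  have hx : pullback.fst f g t = x := by
    rw [← ht, ← Scheme.Hom.comp_apply, ht₁, Scheme.Hom.comp_apply, Scheme.fromSpecResidueField_apply]
  have hy : pullback.snd f g t = y := by
    rw [← ht, ← Scheme.Hom.comp_apply, ht₂, Scheme.Hom.comp_apply, Scheme.fromSpecResidueField_apply]
  refine ⟨t, hx, hy, ?_⟩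
  subst hy
  have hρi : (pullback.snd f g).residueFieldMap t ≫ ρ = ih := eq_of_fromSpecResidueField (by
    rw [Spec.map_comp, Category.assoc, Scheme.Hom.SpecMap_residueFieldMap_fromSpecResidueField,
      ← Category.assoc, hρ, ht₂])
  subst hx
  have hρj : (pullback.fst f g).residueFieldMap t ≫ ρ = jh := eq_of_fromSpecResidueField (by
    rw [Spec.map_comp, Category.assoc, Scheme.Hom.SpecMap_residueFieldMap_fromSpecResidueField,
      ← Category.assoc, hρ, ht₁])
  letI := ((pullback.snd f g).residueFieldMap t).hom.toAlgebra
  let ρa : (pullback f g).residueField t →ₐ[Y.residueField (pullback.snd f g t)] M :=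
    { toRingHom := ρ.hom, commutes' := fun c => congrArg (fun m => m.hom c) hρi }
  have hind' : AlgebraicIndependent (Y.residueField (pullback.snd f g t))
      (fun s : T => ((pullback.fst f g).residueFieldMap t).hom (s : X.residueField (pullback.fst f g t))) := by
    refine AlgebraicIndependent.of_comp ρa ?_
    have he : (ρa ∘ fun s : T => ((pullback.fst f g).residueFieldMap t).hom (s : X.residueField (pullback.fst f g t))) =
        fun s : T => j s := funext fun s => congrArg (fun m => m.hom (s : X.residueField (pullback.fst f g t))) hρj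
    exact he ▸ hind
  rw [← hT.cardinalMk_eq_trdeg]
  exact hind'.cardinalMk_le_trdeg

end Schemes

end Groth.Agent.ResTrdegBCLib
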